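import Cfsg.Agent.Lib.Sporadic.J2Perm.Data
import Cfsg.Prelude.Def_Sporadic
import Mathlib.GroupTheory.GroupAction.Blocks
import Mathlib.GroupTheory.Sylow

/-!
The Hall–Janko group on the 100 vertices of its graph: simple of order 604800.
-/

set_option autoImplicit false

namespace CfsgLib.J2Perm

open CfsgLib.Comp CfsgLib.Comp.PermCode
open scoped Pointwise

/-- A primitive-type criterion: rank three with suborbits 1, 36, 63 and generators of order five. -/
theorem simple_of_five {X : Type*} [Finite X] (hX : Nat.card X = 100)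
    (G : Subgroup (Equiv.Perm X)) (a : X) [MulAction.IsPretransitive G X]
    (hsq : ¬ 5 ^ 3 ∣ Nat.card G) (S : Set G) (hgen : Subgroup.closure S = ⊤) (hfive : ∀ g ∈ S, g ^ 5 = 1)
    (hinv : ∀ O : Set X, a ∈ O → (∀ s : MulAction.stabilizer G a, ∀ u ∈ O, (s : G) • u ∈ O) →
      O.ncard = 1 ∨ O.ncard = 37 ∨ O.ncard = 64 ∨ O.ncard = 100) :
    IsSimpleGroup G := by
  have : Fact (Nat.Prime 5) := ⟨by norm_num⟩
  have : Nontrivial X := Finite.one_lt_card_iff_nontrivial.1 (by omega)
  have : Nontrivial G := by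
    obtain ⟨u, hu⟩ := exists_ne a
    obtain ⟨g, hg⟩ := MulAction.exists_smul_eq G a u
    exact ⟨⟨g, 1, fun e => hu (by rw [← hg, e, one_smul])⟩⟩
  refine { eq_bot_or_eq_top_of_normal := fun N hN => or_iff_not_imp_left.2 fun hne => ?_ }
  have hblock : MulAction.IsBlock G (MulAction.orbit N a) := MulAction.IsBlock.orbit_of_normal a
  have hdvd := hblock.ncard_dvd_card ⟨a, MulAction.mem_orbit_self a⟩
  rw [hX] at hdvd
  have hsz := hinv (MulAction.orbit N a) (MulAction.mem_orbit_self a) (by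
    rintro s _ ⟨n, rfl⟩
    refine ⟨⟨(s : G) * (n : G) * (s : G)⁻¹, hN.conj_mem _ n.2 _⟩, ?_⟩
    show ((s : G) * (n : G) * (s : G)⁻¹) • a = (s : G) • ((n : G) • a)
    rw [mul_smul, mul_smul, show (s : G)⁻¹ • a = a from inv_smul_eq_iff.2 s.2.symm])
  rcases hsz with h | h | h | h
  · exfalso
    have hfix : ∀ n ∈ N, n • a = a := fun n hn => by
      obtain ⟨w, hw⟩ := Set.ncard_eq_one.1 h
      have h1 : n • a ∈ MulAction.orbit N a := ⟨⟨n, hn⟩, rfl⟩
      have h2 := MulAction.mem_orbit_self (M := N) a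
      rw [hw, Set.mem_singleton_iff] at h1 h2
      exact h1.trans h2.symm
    refine hne (N.eq_bot_iff_forall.2 fun n hn => Subtype.ext (Equiv.ext fun u => ?_))
    obtain ⟨g, rfl⟩ := MulAction.exists_smul_eq G a u
    show n • (g • a) = g • a
    have hc := hfix _ (hN.conj_mem n hn g⁻¹)
    rw [inv_inv, mul_smul, mul_smul, inv_smul_eq_iff] at hc
    exact hc
  · rw [h] at hdvd; norm_num at hdvd
  · rw [h] at hdvd; norm_num at hdvd
  -- `N` is transitive, so it contains every element of order five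
  have h100 : 100 ∣ Nat.card N := by
    have hi := Subgroup.index_dvd_card (MulAction.stabilizer N a)
    rwa [MulAction.index_stabilizer, h] at hi
  have hquot : ¬ 5 ∣ Nat.card (G ⧸ N) := by
    intro h5
    apply hsq
    rw [Subgroup.card_eq_card_quotient_mul_card_subgroup N]
    exact (show (5 : ℕ) ^ 3 = 5 * 25 by norm_num) ▸
      Nat.mul_dvd_mul h5 ((by norm_num : 25 ∣ 100).trans h100)
  rw [eq_top_iff, ← hgen, Subgroup.closure_le]
  intro g hg
  rw [SetLike.mem_coe, ← QuotientGroup.eq_one_iff, ← orderOf_eq_one_iff]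
  have hd : orderOf (g : G ⧸ N) ∣ 5 := orderOf_dvd_of_pow_eq_one (by
    rw [← QuotientGroup.mk_pow, hfive g hg, QuotientGroup.mk_one])
  exact ((Nat.dvd_prime (by norm_num)).1 hd).resolve_right fun e => hquot (e ▸ orderOf_dvd_natCard _)

/-- The Hall–Janko group as permutations of 100 points. -/
noncomputable def J2sub : Subgroup (Equiv.Perm (Fin 100)) := span 100 j2Gens

/-- The root of the suborbit containing a point. -/
def root (x : ℕ) : ℕ := bif Nat.blt x 37 then 1 else 37

/-- The check of the suborbit representatives. -/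
noncomputable def orbCheck : Bool :=
  allLt 99 fun i =>
    okb 100 (j2Orb.getD i 0) && sift 100 j2Chain (j2Orb.getD i 0) &&
      Nat.beq (act 100 (j2Orb.getD i 0) 0) 0 &&
      Nat.beq (act 100 (j2Orb.getD i 0) (root (i + 1))) (i + 1)

theorem orbCheck_true : orbCheck = true := by decide +kernel

theorem exists_stab_map (x : Fin 100) (hx : (x : ℕ) ≠ 0) :
    ∃ s : MulAction.stabilizer J2sub (0 : Fin 100), ∃ r : Fin 100,
      (r : ℕ) = root x ∧ (s : J2sub) • r = x := by
  have h := allLt_spec orbCheck_true ((x : ℕ) - 1) (by have := x.2; omega)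
  simp only [Bool.and_eq_true] at h
  obtain ⟨⟨⟨hok, hs⟩, h0⟩, hr⟩ := h
  rw [show (x : ℕ) - 1 + 1 = x by omega] at hr
  set u := j2Orb.getD ((x : ℕ) - 1) 0
  have hmem : val 100 u ∈ J2sub := mem_span j2_check hok hs
  have h0' := Nat.eq_of_beq_eq_true h0
  have hr' := Nat.eq_of_beq_eq_true hr
  have hroot : root x < 100 := by unfold root; cases Nat.blt (x : ℕ) 37 <;> decide
  rw [act_val (ok_of_okb hok)] at h0' hr'
  refine ⟨⟨⟨_, hmem⟩, MulAction.mem_stabilizer_iff.2 (Fin.ext ?_)⟩, ⟨root x, hroot⟩, rfl, Fin.ext ?_⟩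
  · simpa [pt, Subgroup.smul_def] using h0'
  · simpa [pt, hroot, Subgroup.smul_def] using hr'

theorem hinv (O : Set (Fin 100)) (h0 : (0 : Fin 100) ∈ O)
    (hO : ∀ s : MulAction.stabilizer J2sub (0 : Fin 100), ∀ u ∈ O, (s : J2sub) • u ∈ O) :
    O.ncard = 1 ∨ O.ncard = 37 ∨ O.ncard = 64 ∨ O.ncard = 100 := by
  classical
  have hiff : ∀ x : Fin 100, (x : ℕ) ≠ 0 →
      (x ∈ O ↔ if (x : ℕ) < 37 then (1 : Fin 100) ∈ O else (37 : Fin 100) ∈ O) := by
    intro x hx
    obtain ⟨s, r, hr, rfl⟩ := exists_stab_map x hx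
    have hrr : r = if ((((s : J2sub) • r) : Fin 100) : ℕ) < 37 then (1 : Fin 100) else 37 := by
      apply Fin.ext
      rw [hr]
      unfold root
      by_cases hlt : ((((s : J2sub) • r) : Fin 100) : ℕ) < 37
      · rw [if_pos hlt, show Nat.blt _ 37 = true from (Nat.blt_eq).symm ▸ hlt]; rfl
      · rw [if_neg hlt, show Nat.blt _ 37 = false from Bool.eq_false_iff.2 (fun h => hlt (Nat.blt_eq ▸ h))]
        rfl
    rw [← apply_ite (· ∈ O), ← hrr]
    refine ⟨fun h => ?_, fun h => hO s r h⟩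
    have := hO s⁻¹ _ h
    rwa [Subgroup.coe_inv, inv_smul_smul] at this
  have key : ∀ b1 b2 : Bool,
      (Finset.univ.filter fun x : Fin 100 => ((x : ℕ) == 0 || bif (x : ℕ) < 37 then b1 else b2) = true).card ∈
        [1, 37, 64, 100] := by decide +kernel
  have hO' : O.ncard = (Finset.univ.filter fun x : Fin 100 => ((x : ℕ) == 0 ||
      bif (x : ℕ) < 37 then decide ((1 : Fin 100) ∈ O) else decide ((37 : Fin 100) ∈ O)) = true).card := by
    rw [← Set.ncard_coe_finset]
    congr 1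
    ext x
    simp only [Finset.coe_filter, Finset.mem_univ, true_and, Set.mem_ofPred_eq]
    by_cases hx : (x : ℕ) = 0
    · simp [hx, (Fin.ext hx : x = 0) ▸ h0]
    · rw [hiff x hx]
      by_cases hlt : (x : ℕ) < 37 <;> simp [hx, hlt]
  have h := key (decide ((1 : Fin 100) ∈ O)) (decide ((37 : Fin 100) ∈ O))
  rw [← hO'] at h
  simpa using h

theorem card_J2sub : Nat.card J2sub = 604800 := j2_card

theorem isJ2 : Cfsg.IsJ2 J2sub := by
  refine ⟨?_, card_J2sub⟩
  have : MulAction.IsPretransitive J2sub (Fin 100) :=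
    isPretransitive j2_check (by decide) (by decide +kernel)
  refine simple_of_five (by simp) J2sub 0 (by rw [card_J2sub]; norm_num)
    (Subtype.val ⁻¹' {g | ∃ s ∈ j2Gens, val 100 s = g}) (Subgroup.closure_preimage_eq_top _) ?_ hinv
  rintro g ⟨s, hs, hsg⟩
  have hpow : ∀ s ∈ j2Gens, okb 100 s = true ∧
      Nat.beq (mul 100 s (mul 100 s (mul 100 s (mul 100 s s)))) (one 100) = true := by decide +kernel
  obtain ⟨hok, hp⟩ := hpow s hs
  have h := Nat.eq_of_beq_eq_true hp
  have hn : 100 ≤ 256 := by norm_num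
  have ho := ok_of_okb hok
  apply Subtype.ext
  rw [SubmonoidClass.coe_pow, ← hsg, Subgroup.coe_one, ← val_one hn, ← h,
    val_mul hn ho (ok_mul hn ho (ok_mul hn ho (ok_mul hn ho ho))),
    val_mul hn ho (ok_mul hn ho (ok_mul hn ho ho)), val_mul hn ho (ok_mul hn ho ho), val_mul hn ho ho]
  simp [pow_succ, mul_assoc]

end CfsgLib.J2Perm
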