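import Cfsg.Agent.Lib.Sporadic.J2Perm.Orders

/-! Kernel check: elements of the Hall–Janko group carrying the first point to the point 1. -/

set_option autoImplicit false

namespace CfsgLib.J2Perm

theorem cosetCheck_1 : cosetCheck 1 = true := by decide +kernel

end CfsgLib.J2Perm
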