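import Cfsg.Agent.Lib.Sporadic.J2Perm.Spectrum
import Cfsg.Agent.Lib.AlmostAll.HeartEight

/-!
Any group isomorphic to the Hall–Janko permutation group has the element orders of the symmetric group of
degree eight and of arbitrarily large groups.
-/

set_option autoImplicit false

namespace CfsgLib.J2Perm

universe u

variable {K : Type u} [Group K]

theorem range_of_iso (e : K ≃* J2sub) :
    Set.range (orderOf : K → ℕ) = {n | n ∈ CfsgLib.HeartEight.spec} := by
  rw [show CfsgLib.HeartEight.spec = [1, 2, 3, 4, 5, 6, 7, 8, 10, 12, 15] from rfl, ← range_orderOf]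
  ext n
  constructor
  · rintro ⟨g, rfl⟩; exact ⟨e g, MulEquiv.orderOf_eq e g⟩
  · rintro ⟨g, rfl⟩; exact ⟨e.symm g, MulEquiv.orderOf_eq e.symm g⟩

theorem range_perm_eight (e : K ≃* J2sub) :
    Set.range (orderOf : Equiv.Perm (Fin 8) → ℕ) = Set.range (orderOf : K → ℕ) := by
  rw [range_of_iso e, CfsgLib.HeartEight.range_perm]

theorem exists_isospectral (e : K ≃* J2sub) (N : ℕ) :
    ∃ (H : Type) (_ : Group H) (_ : Fintype H), N < Fintype.card H ∧
      Set.range (orderOf : H → ℕ) = Set.range (orderOf : K → ℕ) := by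
  letI : Fintype (CfsgLib.HeartEight.Ext (N + 1)) := Fintype.ofFinite _
  refine ⟨CfsgLib.HeartEight.Ext (N + 1), inferInstance, inferInstance, ?_, ?_⟩
  · rw [← Nat.card_eq_fintype_card]
    exact CfsgLib.HeartEight.le_card (N + 1)
  · rw [range_of_iso e]
    exact CfsgLib.HeartEight.range_ext (Nat.succ_pos N)

end CfsgLib.J2Perm
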