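import Cfsg.Agent.Lib.Sporadic.J2Perm.Main
import Cfsg.Agent.Lib.Comp.PermElts

/-!
Element orders of the Hall–Janko group on 100 points: every element is conjugate into the point stabiliser
or into one of two of its cosets, and each element there is killed by 7, 8, 10, 12 or 15.
-/

set_option autoImplicit false

namespace CfsgLib.Comp.Model

variable {β : Type*} {G : Type*} [Group G] (M : Model β G)

/-- An element of a chain fixing the first base point lies in the rest of the chain. -/
theorem elts_tail_of_fix [Finite G] {tab : List β} (htab : ∀ a ∈ tab, M.ok a) {l : Level β}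
    {rest : List (Level β)} (h : M.checkChain tab (l :: rest) = true) {g : G}
    (hg : g ∈ M.Elts (l :: rest)) (hfix : M.pt g l.base = l.base) : g ∈ M.Elts rest := by
  have good := M.checkChain_spec htab _ h
  simp only [checkChain, Bool.and_eq_true] at h
  obtain ⟨⟨⟨⟨hrest, -⟩, -⟩, hstab⟩, hdist⟩ := h
  have goodr := M.checkChain_spec htab rest hrest
  obtain ⟨u, hu, k, hk, rfl⟩ := hg
  have hk' : M.pt k l.base = l.base := by
    refine M.pt_eq_of_mem (fun s hs => ?_) k (by rw [goodr.elts] at hk; exact hk)
    have hok : M.ok s := (M.sgens_spec (H := ⊤) (fun a ha => ⟨htab a ha, Subgroup.mem_top _⟩) rest s hs).1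
    rw [← M.act_val s _ hok]
    exact Nat.eq_of_beq_eq_true (List.all_eq_true.1 hstab s hs)
  rw [M.pt_mul, hk', ← M.act_val u.1 _ (good.tr l List.mem_cons_self u hu).1] at hfix
  have he : M.act u.1 l.base = M.act (M.one, M.one).1 l.base := by
    rw [hfix, M.act_val _ _ M.ok_one, M.val_one, M.pt_one]
  have hn := nodupb_spec _ hdist
  rw [List.map_map] at hn
  have := List.inj_on_of_nodup_map hn hu (by simp [tpairs]) he
  rw [this, M.val_one, one_mul]
  exact hk

/-- An element of a chain fixing every base point is trivial. -/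
theorem elts_eq_one_of_fix [Finite G] {tab : List β} (htab : ∀ a ∈ tab, M.ok a) :
    ∀ (chain : List (Level β)), M.checkChain tab chain = true → ∀ g ∈ M.Elts chain,
      (∀ l ∈ chain, M.pt g l.base = l.base) → g = 1
  | [], _, _, hg, _ => hg
  | l :: rest, h, g, hg, hfix => by
    have h' : M.checkChain tab rest = true := by
      simp only [checkChain, Bool.and_eq_true] at h
      exact h.1.1.1.1
    exact elts_eq_one_of_fix htab rest h' g (M.elts_tail_of_fix htab h hg (hfix l List.mem_cons_self))
      fun l' hl' => hfix l' (List.mem_cons_of_mem _ hl')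

end CfsgLib.Comp.Model

namespace CfsgLib.J2Perm

open CfsgLib.Comp CfsgLib.Comp.PermCode

/-- the orbit of a point under the product of two coded permutations -/
noncomputable def iterTwo (u c n i : ℕ) : ℕ := Nat.rec i (fun _ r => get u (get c r)) n

/-- the base points -/
def basePts : List ℕ := [0, 1, 2, 4, 3, 6, 9]

/-- some power of the product by 7, 8, 10, 12 or 15 fixes the base -/
noncomputable def okOrd (u c : ℕ) : Bool :=
  [7, 8, 10, 12, 15].any fun n => basePts.all fun i => Nat.beq (iterTwo u c n i) i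

/-- the chain of the point stabiliser -/
def stabChain : List (Level ℕ) := j2Chain.tail

/-- the first transversal element carrying the first point to a given one -/
noncomputable def rep (r : ℕ) : ℕ :=
  match j2Chain with
  | [] => 0
  | l :: _ => match (((one 100, one 100) :: l.trans.map (fun e => (e.1, e.2.1))).map Prod.fst).find?
      (fun u => Nat.beq (act 100 u 0) r) with
    | none => 0
    | some u => u

/-- the check for one coset -/
noncomputable def cosetCheck (r : ℕ) : Bool :=
  okb 100 (rep r) && Nat.beq (act 100 (rep r) 0) r && sift 100 j2Chain (rep r) &&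
    (eltsList 100 stabChain).all (okOrd (rep r))

theorem table_ok : ∀ a ∈ CfsgLib.Comp.Model.table j2Gens j2Slp, Ok 100 a := by
  have h := j2_check
  simp only [Model.check, Bool.and_eq_true] at h
  exact fun a ha => ((model 100 (by norm_num)).table_spec h.1.1.1 h.1.1.2 a ha).1

theorem chain_check :
    (model 100 (by norm_num)).checkChain (CfsgLib.Comp.Model.table j2Gens j2Slp) j2Chain = true := by
  have h := j2_check
  simp only [Model.check, Bool.and_eq_true] at h
  exact h.1.2

theorem chain_eq : ∃ l : Level ℕ, l.base = 0 ∧ j2Chain = l :: stabChain := ⟨_, rfl, rfl⟩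

theorem bases_eq : j2Chain.map Level.base = basePts := rfl

theorem mem_elts {g : Equiv.Perm (Fin 100)} (hg : g ∈ J2sub) :
    g ∈ (model 100 (by norm_num)).Elts j2Chain := by
  rw [((model 100 (by norm_num)).check_spec j2_check).1]
  exact hg

theorem eq_one_of_base {g : Equiv.Perm (Fin 100)} (hg : g ∈ J2sub)
    (h : ∀ i ∈ basePts, pt g i = i) : g = 1 :=
  (model 100 (by norm_num)).elts_eq_one_of_fix table_ok j2Chain chain_check g (mem_elts hg)
    fun l hl => h l.base (bases_eq ▸ List.mem_map.2 ⟨l, hl, rfl⟩)

theorem exists_stab_code {g : Equiv.Perm (Fin 100)} (hg : g ∈ J2sub) (h0 : pt g 0 = 0) :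
    ∃ c ∈ eltsList 100 stabChain, Ok 100 c ∧ val 100 c = g := by
  obtain ⟨l, hb, hl⟩ := chain_eq
  have hm := mem_elts hg
  have hchk := chain_check
  have good := (model 100 (by norm_num)).checkChain_spec table_ok _ chain_check
  rw [hl] at hm hchk
  have hr := (model 100 (by norm_num)).elts_tail_of_fix table_ok hchk hm (by rw [hb]; exact h0)
  obtain ⟨h1, h2⟩ := eltsList_spec (by norm_num : 100 ≤ 256) stabChain fun l' hl' u hu =>
    (good.tr l' (by rw [hl]; exact List.mem_cons_of_mem _ hl') u hu).1
  obtain ⟨c, hc, he⟩ := (h2 g).1 hr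
  exact ⟨c, hc, h1 c hc, he⟩

theorem iterTwo_eq {u c : ℕ} (hu : Ok 100 u) (hc : Ok 100 c) : ∀ (n : ℕ) (i : Fin 100),
    iterTwo u c n i = (((val 100 u * val 100 c) ^ n) i : Fin 100)
  | 0, i => rfl
  | n + 1, i => by
    show get u (get c (iterTwo u c n i)) = _
    rw [iterTwo_eq hu hc n i, pow_succ', Equiv.Perm.mul_apply, Equiv.Perm.mul_apply, val_apply hu, val_apply hc]

theorem coset_order {r : ℕ} (hr : cosetCheck r = true) {g : Equiv.Perm (Fin 100)} (hg : g ∈ J2sub)
    (h0 : pt g 0 = r) : ∃ n ∈ [7, 8, 10, 12, 15], g ^ n = 1 := by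
  simp only [cosetCheck, Bool.and_eq_true] at hr
  obtain ⟨⟨⟨hok, hact⟩, hsift⟩, hall⟩ := hr
  have hu : val 100 (rep r) ∈ J2sub := mem_span j2_check hok hsift
  have hu0 : pt (val 100 (rep r)) 0 = r := by
    rw [← act_val (ok_of_okb hok)]; exact Nat.eq_of_beq_eq_true hact
  set u := val 100 (rep r) with hudef
  obtain ⟨c, hc, hcok, he⟩ := exists_stab_code (g := u⁻¹ * g) (mul_mem (inv_mem hu) hg) (by
    have h1 := (model 100 (by norm_num)).pt_mul u⁻¹ g 0
    have h2 := (model 100 (by norm_num)).pt_mul u⁻¹ u 0
    rw [inv_mul_cancel, (model 100 (by norm_num)).pt_one] at h2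
    change pt (u⁻¹ * g) 0 = pt u⁻¹ (pt g 0) at h1
    change 0 = pt u⁻¹ (pt u 0) at h2
    rw [h1, h0, ← hu0]
    exact h2.symm)
  obtain ⟨n, hn, hfix⟩ := List.any_eq_true.1 (List.all_eq_true.1 hall c hc)
  refine ⟨n, hn, ?_⟩
  have hgval : g = val 100 (rep r) * val 100 c := by rw [he, ← hudef, mul_inv_cancel_left]
  refine eq_one_of_base (pow_mem hg n) fun i hi => ?_
  have hilt : i < 100 := by
    simp only [basePts, List.mem_cons, List.not_mem_nil, or_false] at hi
    omega
  have hf := Nat.eq_of_beq_eq_true (List.all_eq_true.1 hfix i hi)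
  rw [iterTwo_eq (ok_of_okb hok) hcok n ⟨i, hilt⟩, ← hgval] at hf
  rw [pt, dif_pos hilt]
  exact hf

end CfsgLib.J2Perm
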