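import Cfsg.Agent.Lib.Sporadic.J2Perm.CosetZero
import Cfsg.Agent.Lib.Sporadic.J2Perm.CosetOne
import Cfsg.Agent.Lib.Sporadic.J2Perm.CosetThirtySeven

/-!
The element orders of the Hall–Janko group on 100 points: 1, 2, 3, 4, 5, 6, 7, 8, 10, 12, 15.
-/

set_option autoImplicit false

namespace CfsgLib.J2Perm

open CfsgLib.Comp CfsgLib.Comp.PermCode

theorem exists_pow_eq_one (g : J2sub) : ∃ n ∈ [7, 8, 10, 12, 15], g ^ n = 1 := by
  suffices h : ∃ n ∈ [7, 8, 10, 12, 15], (g : Equiv.Perm (Fin 100)) ^ n = 1 by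
    obtain ⟨n, hn, h⟩ := h
    exact ⟨n, hn, Subtype.ext (by rw [SubmonoidClass.coe_pow, h, Subgroup.coe_one])⟩
  by_cases hb : (((g : Equiv.Perm (Fin 100)) 0 : Fin 100) : ℕ) = 0
  · exact coset_order cosetCheck_0 g.2 (by rw [pt, dif_pos (by norm_num : 0 < 100)]; exact hb)
  obtain ⟨s, r, hr, hs⟩ := exists_stab_map ((g : Equiv.Perm (Fin 100)) 0) hb
  have hs0 : ((s : J2sub) : Equiv.Perm (Fin 100)) 0 = 0 := MulAction.mem_stabilizer_iff.1 s.2
  have hsr : ((s : J2sub) : Equiv.Perm (Fin 100)) r = (g : Equiv.Perm (Fin 100)) 0 := hs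
  set σ : Equiv.Perm (Fin 100) := ((s : J2sub) : Equiv.Perm (Fin 100))
  have hpt : pt (σ⁻¹ * (g : Equiv.Perm (Fin 100)) * σ) 0 = (r : ℕ) := by
    rw [pt, dif_pos (by norm_num : 0 < 100)]
    show ((σ⁻¹ ((g : Equiv.Perm (Fin 100)) (σ 0)) : Fin 100) : ℕ) = r
    rw [hs0, ← hsr, Equiv.Perm.inv_def, Equiv.symm_apply_apply]
  have hmem : σ⁻¹ * (g : Equiv.Perm (Fin 100)) * σ ∈ J2sub := mul_mem (mul_mem (inv_mem (s : J2sub).2) g.2) (s : J2sub).2
  obtain ⟨n, hn, h⟩ : ∃ n ∈ [7, 8, 10, 12, 15], (σ⁻¹ * (g : Equiv.Perm (Fin 100)) * σ) ^ n = 1 := by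
    rw [hr] at hpt
    unfold root at hpt
    cases h : Nat.blt (((g : Equiv.Perm (Fin 100)) 0 : Fin 100) : ℕ) 37
    · rw [h, cond_false] at hpt; exact coset_order cosetCheck_37 hmem hpt
    · rw [h, cond_true] at hpt; exact coset_order cosetCheck_1 hmem hpt
  refine ⟨n, hn, ?_⟩
  have e : (σ⁻¹ * (g : Equiv.Perm (Fin 100)) * σ) ^ n = σ⁻¹ * (g : Equiv.Perm (Fin 100)) ^ n * σ := by
    simpa using conj_pow (a := σ⁻¹) (b := (g : Equiv.Perm (Fin 100))) (i := n)
  rw [e, mul_assoc, inv_mul_eq_one] at h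
  exact mul_eq_right.1 h.symm

/-- the product of a word in the generators -/
noncomputable def word (w : List ℕ) : ℕ := w.foldl (fun p i => mul 100 p (j2Gens.getD i (one 100))) (one 100)

theorem word_spec {L : List ℕ} (hall : ∀ t ∈ L, okb 100 t = true) : ∀ (w : List ℕ) (p : ℕ), Ok 100 p →
    val 100 p ∈ span 100 L →
    Ok 100 (w.foldl (fun p i => mul 100 p (L.getD i (one 100))) p) ∧
      val 100 (w.foldl (fun p i => mul 100 p (L.getD i (one 100))) p) ∈ span 100 L
  | [], p, h1, h2 => ⟨h1, h2⟩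
  | i :: w, p, h1, h2 => by
    have hn : 100 ≤ 256 := by norm_num
    have hg : Ok 100 (L.getD i (one 100)) ∧ val 100 (L.getD i (one 100)) ∈ span 100 L := by
      by_cases hi : i < L.length
      · rw [List.getD_eq_getElem _ _ hi]
        exact ⟨ok_of_okb (hall _ (List.getElem_mem hi)), one_le 100 L (List.getElem_mem hi)⟩
      · rw [List.getD_eq_default _ _ (Nat.le_of_not_lt hi), val_one hn]
        exact ⟨ok_one hn, one_mem _⟩
    rw [List.foldl_cons]
    exact word_spec hall w (mul 100 p (L.getD i (one 100))) (ok_mul hn h1 hg.1) (by rw [val_mul hn h1 hg.1]; exact mul_mem h2 hg.2)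

theorem gens_ok : ∀ t ∈ j2Gens, okb 100 t = true := by decide +kernel

theorem exists_order (w : List ℕ) {d : ℕ} (h : ordc 100 (word w) 16 = d) (hd : d ≠ 0) :
    ∃ g : J2sub, orderOf g = d := by
  have hn : 100 ≤ 256 := by norm_num
  obtain ⟨hok, hmem⟩ := word_spec gens_ok w (one 100) (ok_one hn) (by rw [val_one hn]; exact one_mem _)
  exact ⟨⟨_, hmem⟩, by rw [← Subgroup.orderOf_coe]; exact (orderOf_of_ordc hn hok (h ▸ hd)).trans h⟩

/-- The element orders of the Hall–Janko group. -/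
theorem range_orderOf :
    Set.range (orderOf : J2sub → ℕ) = {n | n ∈ [1, 2, 3, 4, 5, 6, 7, 8, 10, 12, 15]} := by
  ext n
  constructor
  · rintro ⟨g, rfl⟩
    obtain ⟨m, hm, hg⟩ := exists_pow_eq_one g
    have hd := orderOf_dvd_of_pow_eq_one hg
    have hpos := orderOf_pos g
    generalize orderOf g = d at hd hpos ⊢
    have hle : d ≤ 15 := by
      have hm15 : 0 < m ∧ m ≤ 15 := by
        simp only [List.mem_cons, List.not_mem_nil, or_false] at hm
        omega
      exact (Nat.le_of_dvd hm15.1 hd).trans hm15.2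
    have key : ∀ d : Fin 16, ∀ m ∈ [7, 8, 10, 12, 15], 0 < d.val → d.val ∣ m →
        d.val ∈ [1, 2, 3, 4, 5, 6, 7, 8, 10, 12, 15] := by decide +kernel
    exact key ⟨d, by omega⟩ m hm hpos hd
  · intro h
    have h7 := exists_order [0, 0, 0, 1, 1] (d := 7) (by decide +kernel) (by norm_num)
    have h8 := exists_order [0, 0, 0, 1, 0, 1, 1, 1] (d := 8) (by decide +kernel) (by norm_num)
    have h10 := exists_order [0, 0, 1] (d := 10) (by decide +kernel) (by norm_num)
    have h12 := exists_order [0, 0, 1, 1] (d := 12) (by decide +kernel) (by norm_num)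
    have h15 := exists_order [0, 0, 0, 0, 1] (d := 15) (by decide +kernel) (by norm_num)
    have sub : ∀ {D d : ℕ}, d ∣ D → D ≠ 0 → (∃ g : J2sub, orderOf g = D) → ∃ g : J2sub, orderOf g = d := by
      rintro D d ⟨e, rfl⟩ h0 ⟨g, hg⟩
      have he : e ≠ 0 := by rintro rfl; exact h0 (mul_zero d)
      refine ⟨g ^ e, ?_⟩
      rw [orderOf_pow' _ he, hg, Nat.gcd_eq_right (Dvd.intro_left d rfl), Nat.mul_div_cancel _ (Nat.pos_of_ne_zero he)]
    simp only [List.mem_cons, List.not_mem_nil, or_false, Set.mem_ofPred_eq] at h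
    rcases h with rfl | rfl | rfl | rfl | rfl | rfl | rfl | rfl | rfl | rfl | rfl
    · exact sub (by norm_num) (by norm_num) h7
    · exact sub (by norm_num) (by norm_num) h8
    · exact sub (by norm_num) (by norm_num) h12
    · exact sub (by norm_num) (by norm_num) h8
    · exact sub (by norm_num) (by norm_num) h10
    · exact sub (by norm_num) (by norm_num) h12
    · exact h7
    · exact h8
    · exact h10
    · exact h12
    · exact h15

end CfsgLib.J2Perm
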